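import Mathlib
import Cfsg.Agent.S2119
import Cfsg.Agent.Prune
set_option linter.all false
open scoped Cfsg.Agent.FastGrp

/-!
# Sidki pairs, the row `J₂`: facts about `A₅` and `S₅` (helper96)
-/

set_option autoImplicit false

namespace Cfsg.Agent.H96.SK.A5

open Equiv

/-- the code of a permutation -/
private def cd (σ : Perm (Fin 5)) : ℕ := (σ 0).1 + 8 * ((σ 1).1 + 8 * ((σ 2).1 + 8 * ((σ 3).1 + 8 * (σ 4).1)))

/-- a digit -/
private def dig (n i : ℕ) : ℕ := Nat.mod (Nat.div n (Nat.pow 8 i)) 8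

/-- the product of codes -/
private def cm (a b : ℕ) : ℕ := Nat.add (dig a (dig b 0)) (Nat.mul 8 (Nat.add (dig a (dig b 1)) (Nat.mul 8 (Nat.add (dig a (dig b 2))
  (Nat.mul 8 (Nat.add (dig a (dig b 3)) (Nat.mul 8 (dig a (dig b 4)))))))))

/-- the inverse of a code -/
private def ci (a : ℕ) : ℕ := Nat.add (Nat.pow 8 (dig a 1)) (Nat.add (Nat.mul 2 (Nat.pow 8 (dig a 2)))
  (Nat.add (Nat.mul 3 (Nat.pow 8 (dig a 3))) (Nat.mul 4 (Nat.pow 8 (dig a 4)))))

/-- the codes of the even permutations -/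
private def ev : List ℕ := [668, 738, 787, 1123, 1228, 1305, 1620, 1697, 1802, 2138, 2187, 2257, 4259, 4308, 4378, 5148, 5344, 5379, 5666, 5764, 5904, 6163, 6296, 6338, 8284, 8417, 8459, 8739, 8900, 8984, 9740, 9824, 9985, 10265, 10307, 10440, 12386, 12428, 12561, 12820, 12960, 13058, 13345, 13380, 13576, 14346, 14416, 14465, 16467, 16537, 16586, 16922, 17027, 17104, 17419, 17496, 17601, 17937, 17986, 18056]

/-- the codes of the odd permutations -/
private def od : List ℕ := [675, 724, 794, 1116, 1249, 1291, 1634, 1676, 1809, 2131, 2201, 2250, 4252, 4322, 4371, 5155, 5316, 5400, 5652, 5792, 5890, 6170, 6275, 6352, 8291, 8396, 8473, 8732, 8928, 8963, 9761, 9796, 9992, 10251, 10328, 10433, 12372, 12449, 12554, 12834, 12932, 13072, 13324, 13408, 13569, 14353, 14402, 14472, 16474, 16523, 16593, 16915, 17048, 17090, 17433, 17475, 17608, 17930, 18000, 18049]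

private theorem dig_cd (σ : Perm (Fin 5)) (i : Fin 5) : dig (cd σ) i = (σ i).1 := by
  have h0 := (σ 0).2
  have h1 := (σ 1).2
  have h2 := (σ 2).2
  have h3 := (σ 3).2
  have h4 := (σ 4).2
  match i with
  | 0 => show cd σ / 1 % 8 = (σ 0).1; unfold cd; omega
  | 1 => show cd σ / 8 % 8 = (σ 1).1; unfold cd; omega
  | 2 => show cd σ / 64 % 8 = (σ 2).1; unfold cd; omega
  | 3 => show cd σ / 512 % 8 = (σ 3).1; unfold cd; omega
  | 4 => show cd σ / 4096 % 8 = (σ 4).1; unfold cd; omega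

private theorem cd_inj {σ τ : Perm (Fin 5)} : σ = τ ↔ cd σ = cd τ :=
  ⟨congrArg cd, fun h => Equiv.ext fun i => Fin.ext (by rw [← dig_cd, h, dig_cd])⟩

private theorem cd_mul (σ τ : Perm (Fin 5)) : cd (σ * τ) = cm (cd σ) (cd τ) := by
  have h : ∀ i : Fin 5, dig (cd σ) (dig (cd τ) i) = ((σ * τ) i).1 := fun i => by rw [dig_cd, dig_cd]; rfl
  exact (congrArg₂ Nat.add (h 0) (congrArg (Nat.mul 8) (congrArg₂ Nat.add (h 1) (congrArg (Nat.mul 8) (congrArg₂ Nat.add (h 2)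
    (congrArg (Nat.mul 8) (congrArg₂ Nat.add (h 3) (congrArg (Nat.mul 8) (h 4))))))))).symm

private theorem cd_one : cd 1 = 18056 := rfl

private theorem cd_all : ∀ σ : Perm (Fin 5), cd σ⁻¹ = ci (cd σ) ∧ if Perm.sign σ = 1 then cd σ ∈ ev else cd σ ∈ od := by
  decide +kernel

private theorem cd_inv (σ : Perm (Fin 5)) : cd σ⁻¹ = ci (cd σ) := (cd_all σ).1

private theorem cd_ev (z : alternatingGroup (Fin 5)) : cd z ∈ ev := by
  have h := (cd_all z).2
  rwa [if_pos (Perm.mem_alternatingGroup.1 z.2)] at h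

private theorem cd_mem (σ : Perm (Fin 5)) : cd σ ∈ ev ++ od := by
  have h := (cd_all σ).2
  split_ifs at h
  exacts [List.mem_append_left _ h, List.mem_append_right _ h]

private theorem cd_onto {n : ℕ} (h : n ∈ ev) : ∃ z : alternatingGroup (Fin 5), cd z = n := by
  have h1 : (Finset.univ.image fun z : alternatingGroup (Fin 5) => cd z) = ev.toFinset :=
    Finset.eq_of_subset_of_card_le (fun n hn => by
      obtain ⟨z, -, rfl⟩ := Finset.mem_image.1 hn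
      exact List.mem_toFinset.2 (cd_ev z)) (by
      rw [Finset.card_image_of_injective _ fun a b e => Subtype.ext (cd_inj.2 e), Finset.card_univ]
      have h2 := two_mul_card_alternatingGroup (α := Fin 5)
      rw [Fintype.card_perm, Fintype.card_fin] at h2
      have h3 : ev.toFinset.card ≤ 60 := List.toFinset_card_le ev
      have h4 : Nat.factorial 5 = 120 := rfl
      omega)
  obtain ⟨z, -, hz⟩ := Finset.mem_image.1 (h1 ▸ List.mem_toFinset.2 h)
  exact ⟨z, hz⟩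

private theorem p3 {G : Type} [Group G] (x : G) : x ^ 3 = x * x * x := pow_three' x

private theorem p5 {G : Type} [Group G] (x : G) : x ^ 5 = x * x * (x * x) * x := by
  rw [pow_succ, show 4 = 2 + 2 from rfl, pow_add, pow_two]

theorem exists_inv : ∀ z : alternatingGroup (Fin 5), z * z = 1 → z ≠ 1 →
    ∃ w : alternatingGroup (Fin 5), w ^ 5 = 1 ∧ w ≠ 1 ∧ z * w * z⁻¹ = w⁻¹ := by
  have h : ∀ z ∈ ev, cm z z = 18056 → ¬ z = 18056 → ∃ w ∈ ev, cm (cm (cm w w) (cm w w)) w = 18056 ∧ ¬ w = 18056 ∧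
      cm (cm z w) (ci z) = ci w := by decide +kernel
  simp only [p5, ne_eq, Subtype.ext_iff, Subgroup.coe_mul, Subgroup.coe_inv, Subgroup.coe_one, cd_inj, cd_mul, cd_inv, cd_one]
  intro z h1 h2
  obtain ⟨n, hn, h3⟩ := h _ (cd_ev z) h1 h2
  obtain ⟨w, rfl⟩ := cd_onto hn
  exact ⟨w, h3⟩

theorem exists_c : ∀ a b : alternatingGroup (Fin 5), a * a = 1 → a ≠ 1 → b * b = 1 → b ≠ 1 → a ≠ b → a * b = b * a →
    ∃ c : alternatingGroup (Fin 5), c ^ 3 = 1 ∧ c ≠ 1 ∧ c * a * c⁻¹ = b := by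
  have h : ∀ a ∈ ev, cm a a = 18056 → ¬ a = 18056 → ∀ b ∈ ev, cm b b = 18056 → ¬ b = 18056 → ¬ a = b → cm a b = cm b a →
      ∃ c ∈ ev, cm (cm c c) c = 18056 ∧ ¬ c = 18056 ∧ cm (cm c a) (ci c) = b := by decide +kernel
  simp only [p3, ne_eq, Subtype.ext_iff, Subgroup.coe_mul, Subgroup.coe_inv, Subgroup.coe_one, cd_inj, cd_mul, cd_inv, cd_one]
  intro a b h1 h2 h3 h4 h5 h6
  obtain ⟨n, hn, h7⟩ := h _ (cd_ev a) h1 h2 _ (cd_ev b) h3 h4 h5 h6
  obtain ⟨w, rfl⟩ := cd_onto hn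
  exact ⟨w, h7⟩

theorem no_norm : ∀ w : alternatingGroup (Fin 5), w ^ 5 = 1 → w ≠ 1 → ∀ y : alternatingGroup (Fin 5), y * y = 1 →
    y * (w * y * w⁻¹) * (y * (w * y * w⁻¹)) = 1 →
    y * (w ^ 2 * y * (w ^ 2)⁻¹) * (y * (w ^ 2 * y * (w ^ 2)⁻¹)) = 1 → y = 1 := by
  have h : ∀ w ∈ ev, cm (cm (cm w w) (cm w w)) w = 18056 → ¬ w = 18056 → ∀ y ∈ ev, cm y y = 18056 →
      cm (cm y (cm (cm w y) (ci w))) (cm y (cm (cm w y) (ci w))) = 18056 →
      cm (cm y (cm (cm (cm w w) y) (ci (cm w w)))) (cm y (cm (cm (cm w w) y) (ci (cm w w)))) = 18056 → y = 18056 := by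
    decide +kernel
  simp only [p5, pow_two, ne_eq, Subtype.ext_iff, Subgroup.coe_mul, Subgroup.coe_inv, Subgroup.coe_one, cd_inj, cd_mul, cd_inv,
    cd_one]
  exact fun w h1 h2 y => h _ (cd_ev w) h1 h2 _ (cd_ev y)

theorem ord_cases : ∀ y : alternatingGroup (Fin 5), y ^ 2 = 1 ∨ y ^ 3 = 1 ∨ y ^ 5 = 1 := by
  have h : ∀ y ∈ ev, cm y y = 18056 ∨ cm (cm y y) y = 18056 ∨ cm (cm (cm y y) (cm y y)) y = 18056 := by decide +kernel
  simp only [p5, p3, pow_two, Subtype.ext_iff, Subgroup.coe_mul, Subgroup.coe_one, cd_inj, cd_mul, cd_one]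
  exact fun y => h _ (cd_ev y)

private theorem comm5 (π : Perm (Fin 5)) (h1 : π ^ 5 = 1) (h2 : π ≠ 1) (σ : Perm (Fin 5)) (h3 : σ * π = π * σ) :
    cd σ ∉ od ∧ (σ ^ 3 = 1 → σ = 1) := by
  have h : ∀ p ∈ ev ++ od, cm (cm (cm p p) (cm p p)) p = 18056 → ¬ p = 18056 → ∀ s ∈ ev ++ od, cm s p = cm p s →
      s ∉ od ∧ (cm (cm s s) s = 18056 → s = 18056) := by decide +kernel
  simp only [p5, p3, ne_eq, cd_inj, cd_mul, cd_one] at h1 h2 h3 ⊢
  exact h _ (cd_mem π) h1 h2 _ (cd_mem σ) h3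

/-- a permutation centralising a 5-cycle is even -/
theorem even_of_comm : ∀ π : Perm (Fin 5), π ^ 5 = 1 → π ≠ 1 → ∀ σ : Perm (Fin 5), σ * π = π * σ →
    Perm.sign σ = 1 := fun π h1 h2 σ h3 => by_contra fun h => (comm5 π h1 h2 σ h3).1 (by
  have h4 := (cd_all σ).2
  rwa [if_neg h] at h4)

/-- a permutation of order dividing 3 centralising a 5-cycle is trivial -/
theorem eq_one_of_comm5 : ∀ π : Perm (Fin 5), π ^ 5 = 1 → π ≠ 1 → ∀ σ : Perm (Fin 5), σ * π = π * σ →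
    σ ^ 3 = 1 → σ = 1 := fun π h1 h2 σ h3 => (comm5 π h1 h2 σ h3).2

/-- a permutation centralising an `A₄` is trivial -/
theorem eq_one_of_comm4 : ∀ a c : alternatingGroup (Fin 5), a * a = 1 → a ≠ 1 →
    a * (c * a * c⁻¹) = c * a * c⁻¹ * a → c * a * c⁻¹ ≠ a →
    ∀ σ : Perm (Fin 5), σ * a = a * σ → σ * c = c * σ → σ = 1 := by
  have h : ∀ a ∈ ev, cm a a = 18056 → ¬ a = 18056 → ∀ s ∈ ev ++ od, cm s a = cm a s → s = 18056 ∨ ∀ c ∈ ev,
      cm s c = cm c s → cm a (cm (cm c a) (ci c)) = cm (cm (cm c a) (ci c)) a → cm (cm c a) (ci c) = a := by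
    decide +kernel
  simp only [ne_eq, Subtype.ext_iff, Subgroup.coe_mul, Subgroup.coe_inv, Subgroup.coe_one, cd_inj, cd_mul, cd_inv, cd_one]
  exact fun a c h1 h2 h3 h4 σ h5 h6 =>
    (h _ (cd_ev a) h1 h2 _ (cd_mem σ) h5).resolve_right fun e => h4 (e _ (cd_ev c) h6 h3)

end Cfsg.Agent.H96.SK.A5
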